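import Cfsg.Agent.H675.F43.RelGen
import Cfsg.Agent.H980.F43.GenSp

/-!
# `Sp₆(3)` acts on `V₁₄` (S2465, F₄(3), block E; helper675)

* `exists_rel` : every element of `Sp` acts on `V₁₄`; `rel_unique` : the action is unique; `hom_ext` : a linear map
  from `V₁₄` is determined by the values at `ww x y z`;
* `act : Sp →* Module.End F3 V14`, `rel_act`, `act_eq`, `act_uu`, `act_vv`, `act_inv_mul`, `act_mul_inv`, `act_ng`.
-/

set_option autoImplicit false

namespace Cfsg.Agent.H675.F43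

open Matrix Cfsg.Agent.H700.F43

theorem uu_inv (T : Matrix (Fin 3) (Fin 3) F3) (hT : Tᵀ = T) :
    (uu T hT)⁻¹ = uu (-T) (by rw [Matrix.transpose_neg, hT]) := by
  refine inv_eq_of_mul_eq_one_right (Subtype.ext ?_)
  change Matrix.fromBlocks 1 T 0 1 * Matrix.fromBlocks 1 (-T) 0 1 = 1
  rw [Matrix.fromBlocks_multiply, ← Matrix.fromBlocks_one]
  congr 1 <;> simp

theorem vv_inv (T : Matrix (Fin 3) (Fin 3) F3) (hT : Tᵀ = T) :
    (vv T hT)⁻¹ = vv (-T) (by rw [Matrix.transpose_neg, hT]) := by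
  refine inv_eq_of_mul_eq_one_right (Subtype.ext ?_)
  change Matrix.fromBlocks 1 0 T 1 * Matrix.fromBlocks 1 0 (-T) 1 = 1
  rw [Matrix.fromBlocks_multiply, ← Matrix.fromBlocks_one]
  congr 1 <;> simp

/-- every element of `Sp₆(3)` acts on `V₁₄` -/
theorem exists_rel (A : Sp) : ∃ X : V14 →ₗ[F3] V14, Rel A X := by
  have h : A ∈ Subgroup.closure {A : Sp | (∃ T, ∃ hT : Tᵀ = T, A = uu T hT) ∨ ∃ S, ∃ hS : Sᵀ = S, A = vv S hS} := by
    rw [H980.F43.gen_sp]
    trivial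
  induction h using Subgroup.closure_induction'' with
  | mem x hx =>
    rcases hx with ⟨T, hT, rfl⟩ | ⟨T, hT, rfl⟩
    · exact ⟨_, rel_uu T hT⟩
    · exact ⟨_, rel_vv T hT⟩
  | inv_mem x hx =>
    rcases hx with ⟨T, hT, rfl⟩ | ⟨T, hT, rfl⟩
    · rw [uu_inv]
      exact ⟨_, rel_uu _ _⟩
    · rw [vv_inv]
      exact ⟨_, rel_vv _ _⟩
  | one => exact ⟨1, Rel.one⟩
  | mul x y _ _ hx hy =>
    obtain ⟨X, hX⟩ := hx
    obtain ⟨Y, hY⟩ := hy
    exact ⟨X * Y, hX.mul hY⟩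

/-- the basis of `V₆` -/
def ee (i : Fin 6) : V6 := Pi.single (![Sum.inl 0, Sum.inl 1, Sum.inl 2, Sum.inr 0, Sum.inr 1, Sum.inr 2] i) 1

/-- the basis of `V₁₄` as values of `ww` -/
def lift : Fin 14 → Fin 6 × Fin 6 × Fin 6 × F3 := ![(3, 4, 5, 1), (0, 4, 5, 1), (1, 3, 5, -1), (2, 3, 4, 1),
  (1, 3, 4, -1), (0, 3, 4, -1), (0, 3, 5, 1), (1, 2, 3, 1), (0, 2, 4, -1), (0, 1, 5, 1), (0, 1, 4, -1), (0, 1, 3, -1),
  (0, 2, 3, 1), (0, 1, 2, 1)]

theorem lift_eq (k : Fin 14) :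
    (Pi.single k 1 : V14) = (lift k).2.2.2 • ww (ee (lift k).1) (ee (lift k).2.1) (ee (lift k).2.2.1) := by
  revert k
  decide +kernel

/-- a linear map is determined by the values at `ww x y z` -/
theorem hom_ext {M : Type*} [AddCommGroup M] [Module F3 M] {X Y : V14 →ₗ[F3] M}
    (h : ∀ x y z, X (ww x y z) = Y (ww x y z)) : X = Y := by
  refine LinearMap.pi_ext' fun k => LinearMap.ext_ring ?_
  change X (Pi.single k 1) = Y (Pi.single k 1)
  rw [lift_eq, map_smul, map_smul, h]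

theorem rel_unique {A : Sp} {X Y : V14 →ₗ[F3] V14} (hX : Rel A X) (hY : Rel A Y) : X = Y :=
  hom_ext fun x y z => (hX x y z).trans (hY x y z).symm

/-- the action of `Sp₆(3)` on `V₁₄` -/
noncomputable def act : Sp →* Module.End F3 V14 where
  toFun A := (exists_rel A).choose
  map_one' := rel_unique (exists_rel 1).choose_spec Rel.one
  map_mul' A B := rel_unique (exists_rel (A * B)).choose_spec
    ((exists_rel A).choose_spec.mul (exists_rel B).choose_spec)

theorem rel_act (A : Sp) : Rel A (act A) := (exists_rel A).choose_spec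

theorem act_eq {A : Sp} {X : V14 →ₗ[F3] V14} (hX : Rel A X) : act A = X := rel_unique (rel_act A) hX

theorem act_uu (T : Matrix (Fin 3) (Fin 3) F3) (hT : Tᵀ = T) : act (uu T hT) = Xuu T := act_eq (rel_uu T hT)

theorem act_vv (T : Matrix (Fin 3) (Fin 3) F3) (hT : Tᵀ = T) : act (vv T hT) = Xvv T := act_eq (rel_vv T hT)

theorem rel_ng : Rel ng (-1) := by
  intro x y z
  have h : ∀ v : V6, ng.1.mulVec v = -v := by
    intro v
    change (-1 : Matrix (Fin 3 ⊕ Fin 3) (Fin 3 ⊕ Fin 3) F3).mulVec v = -v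
    rw [Matrix.neg_mulVec, Matrix.one_mulVec]
  rw [h, h, h]
  change -ww x y z = _
  ext k
  fin_cases k <;>
  · simp [ww, cX, cY, d3]
    try ring

theorem act_ng : act ng = -1 := act_eq rel_ng

theorem act_inv_mul (A : Sp) : act A⁻¹ * act A = 1 := by
  rw [← map_mul, inv_mul_cancel, map_one]

theorem act_mul_inv (A : Sp) : act A * act A⁻¹ = 1 := by
  rw [← map_mul, mul_inv_cancel, map_one]

end Cfsg.Agent.H675.F43
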