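import Cfsg.Agent.H700.F43.Mod

/-!
# The action of `Sp₆(3)` on `V₁₄` (S2465, F₄(3), block E; helper675)

* `Xuu`, `Xvv` : the actions of `uu T`, `vv S`; `rel_uu`, `rel_vv`.
-/

set_option autoImplicit false

namespace Cfsg.Agent.H675.F43

open Matrix Cfsg.Agent.H700.F43

set_option maxHeartbeats 4000000 in
/-- the action of `uu T` on `V₁₄` -/
def Xuu (T : Matrix (Fin 3) (Fin 3) F3) : V14 →ₗ[F3] V14 where
  toFun v := ![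
    v 0,
    (T 0 0) * v 0 + v 1,
    (T 1 1) * v 0 + v 2,
    (T 2 2) * v 0 + v 3,
    (-2 * T 1 2) * v 0 + v 4,
    (-2 * T 0 2) * v 0 + v 5,
    (-2 * T 0 1) * v 0 + v 6,
    (T 1 1 * T 2 2 -T 1 2 * T 1 2) * v 0 + (T 2 2) * v 2 + (T 1 1) * v 3 + (T 1 2) * v 4 + v 7,
    (T 0 0 * T 2 2 -T 0 2 * T 0 2) * v 0 + (T 2 2) * v 1 + (T 0 0) * v 3 + (T 0 2) * v 5 + v 8,
    (T 0 0 * T 1 1 -T 0 1 * T 0 1) * v 0 + (T 1 1) * v 1 + (T 0 0) * v 2 + (T 0 1) * v 6 + v 9,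
    (2 * T 0 0 * T 1 2 -2 * T 0 1 * T 0 2) * v 0 + (2 * T 1 2) * v 1 + (-T 0 0) * v 4 + (T 0 1) * v 5 + (T 0 2) * v
    6 + v 10,
    (-2 * T 0 1 * T 1 2 +2 * T 0 2 * T 1 1) * v 0 + (2 * T 0 2) * v 2 + (T 0 1) * v 4 + (-T 1 1) * v 5 + (T 1 2) *
    v 6 + v 11,
    (2 * T 0 1 * T 2 2 -2 * T 0 2 * T 1 2) * v 0 + (2 * T 0 1) * v 3 + (T 0 2) * v 4 + (T 1 2) * v 5 + (-T 2 2) * v
    6 + v 12,
    (T 0 0 * T 1 1 * T 2 2 -T 0 0 * T 1 2 * T 1 2 -T 0 1 * T 0 1 * T 2 2 +2 * T 0 1 * T 0 2 * T 1 2 -T 0 2 * T 0 2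
    * T 1 1) * v 0 + (T 1 1 * T 2 2 -T 1 2 * T 1 2) * v 1 + (T 0 0 * T 2 2 -T 0 2 * T 0 2) * v 2 + (T 0 0 * T 1 1
    -T 0 1 * T 0 1) * v 3 + (T 0 0 * T 1 2 -T 0 1 * T 0 2) * v 4 + (-T 0 1 * T 1 2 +T 0 2 * T 1 1) * v 5 + (T 0 1 *
    T 2 2 -T 0 2 * T 1 2) * v 6 + (T 0 0) * v 7 + (T 1 1) * v 8 + (T 2 2) * v 9 + (-T 1 2) * v 10 + (-T 0 2) * v 11
    + (-T 0 1) * v 12 + v 13]
  map_add' v w := by
    ext k
    fin_cases k <;> simp <;> ring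
  map_smul' c v := by
    ext k
    fin_cases k <;> simp <;> ring

set_option maxHeartbeats 4000000 in
/-- the action of `vv T` on `V₁₄` -/
def Xvv (T : Matrix (Fin 3) (Fin 3) F3) : V14 →ₗ[F3] V14 where
  toFun v := ![
    v 0 + (T 0 0) * v 1 + (T 1 1) * v 2 + (T 2 2) * v 3 + (-T 1 2) * v 4 + (-T 0 2) * v 5 + (-T 0 1) * v 6 + (T 1 1
    * T 2 2 -T 1 2 * T 1 2) * v 7 + (T 0 0 * T 2 2 -T 0 2 * T 0 2) * v 8 + (T 0 0 * T 1 1 -T 0 1 * T 0 1) * v 9 +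
    (T 0 0 * T 1 2 -T 0 1 * T 0 2) * v 10 + (-T 0 1 * T 1 2 +T 0 2 * T 1 1) * v 11 + (T 0 1 * T 2 2 -T 0 2 * T 1 2)
    * v 12 + (T 0 0 * T 1 1 * T 2 2 -T 0 0 * T 1 2 * T 1 2 -T 0 1 * T 0 1 * T 2 2 +2 * T 0 1 * T 0 2 * T 1 2 -T 0 2
    * T 0 2 * T 1 1) * v 13,
    v 1 + (T 2 2) * v 8 + (T 1 1) * v 9 + (T 1 2) * v 10 + (T 1 1 * T 2 2 -T 1 2 * T 1 2) * v 13,
    v 2 + (T 2 2) * v 7 + (T 0 0) * v 9 + (T 0 2) * v 11 + (T 0 0 * T 2 2 -T 0 2 * T 0 2) * v 13,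
    v 3 + (T 1 1) * v 7 + (T 0 0) * v 8 + (T 0 1) * v 12 + (T 0 0 * T 1 1 -T 0 1 * T 0 1) * v 13,
    v 4 + (2 * T 1 2) * v 7 + (-T 0 0) * v 10 + (T 0 1) * v 11 + (T 0 2) * v 12 + (2 * T 0 0 * T 1 2 -2 * T 0 1 * T
    0 2) * v 13,
    v 5 + (2 * T 0 2) * v 8 + (T 0 1) * v 10 + (-T 1 1) * v 11 + (T 1 2) * v 12 + (-2 * T 0 1 * T 1 2 +2 * T 0 2 *
    T 1 1) * v 13,
    v 6 + (2 * T 0 1) * v 9 + (T 0 2) * v 10 + (T 1 2) * v 11 + (-T 2 2) * v 12 + (2 * T 0 1 * T 2 2 -2 * T 0 2 * T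
    1 2) * v 13,
    v 7 + (T 0 0) * v 13,
    v 8 + (T 1 1) * v 13,
    v 9 + (T 2 2) * v 13,
    v 10 + (-2 * T 1 2) * v 13,
    v 11 + (-2 * T 0 2) * v 13,
    v 12 + (-2 * T 0 1) * v 13,
    v 13]
  map_add' v w := by
    ext k
    fin_cases k <;> simp <;> ring
  map_smul' c v := by
    ext k
    fin_cases k <;> simp <;> ring

theorem uu_inl (T : Matrix (Fin 3) (Fin 3) F3) (hT : Tᵀ = T) (x : V6) (i : Fin 3) :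
    ((uu T hT).1.mulVec x) (Sum.inl i) =
      x (Sum.inl i) + (T i 0 * x (Sum.inr 0) + T i 1 * x (Sum.inr 1) + T i 2 * x (Sum.inr 2)) := by
  change (Matrix.fromBlocks 1 T 0 1).mulVec x (Sum.inl i) = _
  rw [Matrix.fromBlocks_mulVec]
  simp [Matrix.mulVec, dotProduct, Fin.sum_univ_three]

theorem uu_inr (T : Matrix (Fin 3) (Fin 3) F3) (hT : Tᵀ = T) (x : V6) (i : Fin 3) :
    ((uu T hT).1.mulVec x) (Sum.inr i) = x (Sum.inr i) := by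
  change (Matrix.fromBlocks 1 T 0 1).mulVec x (Sum.inr i) = _
  rw [Matrix.fromBlocks_mulVec]
  simp

theorem vv_inr (T : Matrix (Fin 3) (Fin 3) F3) (hT : Tᵀ = T) (x : V6) (i : Fin 3) :
    ((vv T hT).1.mulVec x) (Sum.inr i) =
      x (Sum.inr i) + (T i 0 * x (Sum.inl 0) + T i 1 * x (Sum.inl 1) + T i 2 * x (Sum.inl 2)) := by
  change (Matrix.fromBlocks 1 0 T 1).mulVec x (Sum.inr i) = _
  rw [Matrix.fromBlocks_mulVec]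
  simp [Matrix.mulVec, dotProduct, Fin.sum_univ_three]
  ring

theorem vv_inl (T : Matrix (Fin 3) (Fin 3) F3) (hT : Tᵀ = T) (x : V6) (i : Fin 3) :
    ((vv T hT).1.mulVec x) (Sum.inl i) = x (Sum.inl i) := by
  change (Matrix.fromBlocks 1 0 T 1).mulVec x (Sum.inl i) = _
  rw [Matrix.fromBlocks_mulVec]
  simp

theorem sym {T : Matrix (Fin 3) (Fin 3) F3} (hT : Tᵀ = T) : T 1 0 = T 0 1 ∧ T 2 0 = T 0 2 ∧ T 2 1 = T 1 2 :=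
  ⟨congrFun (congrFun hT 0) 1, congrFun (congrFun hT 0) 2, congrFun (congrFun hT 1) 2⟩

set_option maxHeartbeats 4000000 in
theorem rel_uu (T : Matrix (Fin 3) (Fin 3) F3) (hT : Tᵀ = T) : Rel (uu T hT) (Xuu T) := by
  intro x y z
  obtain ⟨h1, h2, h3⟩ := sym hT
  ext k
  fin_cases k <;>
  · simp [Xuu, ww, cX, cY, d3, uu_inl, uu_inr, h1, h2, h3]
    try ring

set_option maxHeartbeats 4000000 in
theorem rel_vv (T : Matrix (Fin 3) (Fin 3) F3) (hT : Tᵀ = T) : Rel (vv T hT) (Xvv T) := by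
  intro x y z
  obtain ⟨h1, h2, h3⟩ := sym hT
  ext k
  fin_cases k <;>
  · simp [Xvv, ww, cX, cY, d3, vv_inl, vv_inr, h1, h2, h3]
    try ring

end Cfsg.Agent.H675.F43
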